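import Cfsg.Agent.H610.KKL.Final
import Cfsg.Agent.H610.KS.Asm
import Cfsg.Agent.H38.KS.Red
import Cfsg.Agent.H466.KS.A12
import Cfsg.Agent.H466.KS.A13
import Cfsg.Agent.H640.KS.Canon
import Cfsg.Agent.H581.KS.B1
import Cfsg.Agent.H142.KS.B2
import Cfsg.Agent.H245.KS.Reyn
import Cfsg.Agent.H658.KS.B4
import Cfsg.Agent.H242.KS.BFive
import Cfsg.Agent.H527.KS.B7

/-!
# S4577: the assembly of the local theory and of the reduction (helper610)

* `a5` : A5 with A1-A4 inserted;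
* `inputs` : the inputs of the reduction B9 (Schreier's property of the simple groups as a hypothesis);
* `hz_all` : `HZ` for all groups from the rows (quasisimple groups with odd centre).
-/

set_option autoImplicit false

open Cfsg Cfsg.Agent.H613.KS

namespace Cfsg.Agent.H610.KS

universe u

open Cfsg.Agent.H610.KKL (SchAll)

/-- A5 -/
theorem a5 (h4 : Props.PA4.{u}) : Props.PA5.{u} :=
  a5_of Cfsg.Agent.H466.KS.PA13 Cfsg.Agent.H466.KS.PA2 Cfsg.Agent.H640.KS.A3c h4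

/-- the inputs of the reduction -/
theorem inputs_of (h4 : Props.PA4.{u}) (hS : SchAll.{u}) : Props.Inputs.{u} where
  a1 := Cfsg.Agent.H466.KS.PA1
  a5 := a5 h4
  b1 := Cfsg.Agent.H581.KS.B1
  b2 := Cfsg.Agent.H142.KS.B2
  b3 := Cfsg.Agent.H245.KS.pb3
  b4 := Cfsg.Agent.H658.KS.b4
  b5 := Cfsg.Agent.H242.KS.B5
  b6 := Cfsg.Agent.H242.KS.B6
  b7 := Cfsg.Agent.H527.KS.b7
  b8 := fun K _ hK hC _ h2 => Cfsg.Agent.H388.KKL.B8_of_sch K hK hC (hS K hK) h2
  b10 := Cfsg.Agent.H245.KS.pb10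

/-- **the reduction to quasisimple groups with odd centre** -/
theorem hz_all_of (h4 : Props.PA4.{u}) (hS : SchAll.{u})
    (hrows : ∀ (K : Type u) [Group K] [Finite K], IsQuasisimple K → Odd (Nat.card ↥(Subgroup.center K)) → HZ K) :
    ∀ (G : Type u) [Group G] [Finite G], HZ G :=
  Cfsg.Agent.H38.KS.B9_of (inputs_of h4 hS) hrows

end Cfsg.Agent.H610.KS
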